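import Groth.Agent.H16Derived.AcyclicLES
import Mathlib.Algebra.Homology.DerivedCategory.Ext.ExactSequences
import Mathlib.Algebra.Homology.DerivedCategory.Plus
import Mathlib.Algebra.Homology.Factorizations.CM5a
import Mathlib.Algebra.Homology.DerivedCategory.Ext.EnoughInjectives

/-!
# Morphisms from an object into bounded below complexes of acyclic objects
-/

set_option autoImplicit false
set_option linter.style.haveILetI false

universe w' w v u

open CategoryTheory CategoryTheory.Limits Abelian HomologicalComplex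

namespace Groth.Agent.H16Derived.BB

variable {A : Type u} [Category.{v} A] [Abelian A] [HasExt.{w'} A]

/-- `Ext^{>0}(G, J) = 0`. -/
def ExtAcyclic (G J : A) : Prop := ∀ p : ℕ, Subsingleton (Ext.{w'} G J (p + 1))

lemma extAcyclic_of_isZero (G : A) {J : A} (hJ : IsZero J) : ExtAcyclic.{w'} G J := fun _ =>
  subsingleton_of_forall_eq 0 fun x => by
    rw [← Ext.comp_mk₀_id x, hJ.eq_of_src (𝟙 J) 0, Ext.mk₀_zero, Ext.comp_zero]

lemma extAcyclic_of_injective (G J : A) [Injective J] : ExtAcyclic.{w'} G J := fun p =>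
  Ext.subsingleton_of_injective G J p

lemma extAcyclic_biprod (G : A) {J J' : A} (h : ExtAcyclic.{w'} G J) (h' : ExtAcyclic.{w'} G J') :
    ExtAcyclic.{w'} G (J ⊞ J') := fun p =>
  subsingleton_of_forall_eq 0 fun x => by
    haveI := h p
    haveI := h' p
    rw [← Ext.comp_mk₀_id x, ← biprod.total, Ext.mk₀_add, Ext.comp_add]
    have h₁ : x.comp (Ext.mk₀ (biprod.fst : J ⊞ J' ⟶ J)) (add_zero _) = 0 := Subsingleton.elim _ _
    have h₂ : x.comp (Ext.mk₀ (biprod.snd : J ⊞ J' ⟶ J')) (add_zero _) = 0 := Subsingleton.elim _ _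
    rw [← Ext.mk₀_comp_mk₀, ← Ext.mk₀_comp_mk₀, ← Ext.comp_assoc_of_third_deg_zero,
      ← Ext.comp_assoc_of_third_deg_zero, h₁, h₂, Ext.zero_comp, Ext.zero_comp, add_zero]

lemma extAcyclic_of_iso (G : A) {J J' : A} (e : J ≅ J') (h : ExtAcyclic.{w'} G J) :
    ExtAcyclic.{w'} G J' := fun p =>
  subsingleton_of_forall_eq 0 fun x => by
    haveI := h p
    have h₁ : x.comp (Ext.mk₀ e.inv) (add_zero _) = 0 := Subsingleton.elim _ _
    rw [← Ext.comp_mk₀_id x, ← e.inv_hom_id, ← Ext.mk₀_comp_mk₀, ← Ext.comp_assoc_of_third_deg_zero,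
      h₁, Ext.zero_comp]

lemma exists_lift_of_extAcyclic (G : A) {S : ShortComplex A} (hS : S.ShortExact)
    (h₁ : ExtAcyclic.{w'} G S.X₁) (q : G ⟶ S.X₃) : ∃ s : G ⟶ S.X₂, s ≫ S.g = q := by
  haveI := h₁ 0
  obtain ⟨s, hs⟩ := Ext.covariant_sequence_exact₃ G hS (Ext.mk₀.{w'} q) (rfl : 0 + 1 = 1)
    (Subsingleton.elim _ _)
  obtain ⟨s', rfl⟩ := (Ext.mk₀_bijective G S.X₂).2 s
  rw [Ext.mk₀_comp_mk₀] at hs
  exact ⟨s', (Ext.mk₀_bijective G S.X₃).1 hs⟩

lemma subsingleton_X₃ (G : A) {S : ShortComplex A} (hS : S.ShortExact) (p : ℕ)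
    (h₁ : Subsingleton (Ext.{w'} G S.X₁ (p + 2))) (h₂ : Subsingleton (Ext.{w'} G S.X₂ (p + 1))) :
    Subsingleton (Ext.{w'} G S.X₃ (p + 1)) :=
  subsingleton_of_forall_eq 0 fun x => by
    obtain ⟨y, hy⟩ := Ext.covariant_sequence_exact₃ G hS x rfl (Subsingleton.elim _ _)
    rw [← hy, Subsingleton.elim y 0, Ext.zero_comp]

lemma extAcyclic_X₃ (G : A) {S : ShortComplex A} (hS : S.ShortExact)
    (h₁ : ExtAcyclic.{w'} G S.X₁) (h₂ : ExtAcyclic.{w'} G S.X₂) : ExtAcyclic.{w'} G S.X₃ := fun p =>
  subsingleton_X₃ G hS p (h₁ (p + 1)) (h₂ p)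

/-- `Hom(G, -)` is exact on exact complexes of acyclic objects which are bounded below, or on all
of them when `G` has finite cohomological dimension. -/
theorem exists_d_eq (G : A) (M : CochainComplex A ℤ)
    (hb : (∃ a, M.IsStrictlyGE a) ∨ ∃ d : ℕ, ∀ (F : A) (p : ℕ), d < p → Subsingleton (Ext.{w'} G F p))
    (hM : M.Acyclic) (hX : ∀ i, ExtAcyclic.{w'} G (M.X i)) (i m : ℤ) (him : i + 1 = m) (z : G ⟶ M.X m)
    (hz : z ≫ M.d m (m + 1) = 0) : ∃ y : G ⟶ M.X i, y ≫ M.d i m = z := by
  let S (i : ℤ) : ShortComplex A := ShortComplex.mk (M.iCycles i) (M.toCycles i (i + 1)) (by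
    rw [← cancel_mono (M.iCycles (i + 1)), Category.assoc, HomologicalComplex.toCycles_i,
      HomologicalComplex.iCycles_d, zero_comp])
  have epi : ∀ i : ℤ, Epi (M.toCycles i (i + 1)) := fun i => by
    have h := (ShortComplex.exact_iff_epi_toCycles ((M.sc' i (i + 1) (i + 1 + 1)))).1
      ((HomologicalComplex.exactAt_iff' M i (i + 1) (i + 1 + 1) (by simp) (by simp)).1 (hM _))
    have e : M.toCycles i (i + 1) =
        (M.sc' i (i + 1) (i + 1 + 1)).toCycles ≫
          (M.cyclesIsoSc' i (i + 1) (i + 1 + 1) (by simp) (by simp)).inv := by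
      rw [← cancel_mono (M.iCycles (i + 1)), HomologicalComplex.toCycles_i]
      erw [Category.assoc, HomologicalComplex.cyclesIsoSc'_inv_iCycles, ShortComplex.toCycles_i]
      rfl
    rw [e]
    exact epi_comp' h inferInstance
  have hS : ∀ i, (S i).ShortExact := fun i => by
    have : Epi (S i).g := epi i
    have : Mono (S i).f := inferInstanceAs (Mono (M.iCycles i))
    refine { exact := ?_ }
    refine ShortComplex.exact_of_f_is_kernel _ (KernelFork.IsLimit.ofι' _ _ (fun {W} k hk =>
      ⟨M.liftCycles k (i + 1) (by simp) ?_, M.liftCycles_i _ _ _ _⟩))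
    rw [← M.toCycles_i i (i + 1), reassoc_of% (show k ≫ M.toCycles i (i + 1) = 0 from hk), zero_comp]
  have hZ : ∀ i : ℤ, ExtAcyclic.{w'} G (M.cycles i) := by
    rcases hb with ⟨a, _⟩ | ⟨d, hd⟩
    · have low : ∀ i, i < a → ExtAcyclic.{w'} G (M.cycles i) := fun i hi =>
        extAcyclic_of_isZero G ((CochainComplex.isZero_of_isStrictlyGE M a i hi).of_mono (M.iCycles i))
      suffices h : ∀ (k : ℕ), ExtAcyclic.{w'} G (M.cycles (a - 1 + k)) by
        intro i
        rcases lt_or_ge i a with hi | hi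
        · exact low i hi
        · have := h (i - (a - 1)).toNat
          rwa [Int.toNat_of_nonneg (by lia), show a - 1 + (i - (a - 1)) = i by lia] at this
      intro k
      induction k with
      | zero => exact low _ (by lia)
      | succ k ih =>
        rw [show a - 1 + ((k + 1 : ℕ) : ℤ) = a - 1 + (k : ℤ) + 1 by lia]
        exact extAcyclic_X₃ G (hS _) ih (hX _)
    · suffices h : ∀ (k p : ℕ) (i : ℤ), d < p + 1 + k →
          Subsingleton (Ext.{w'} G (M.cycles i) (p + 1)) from fun i p => h d p i (by omega)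
      intro k
      induction k with
      | zero => exact fun p i hp => hd _ _ hp
      | succ k ih =>
        intro p i hp
        obtain ⟨l, rfl⟩ : ∃ l, i = l + 1 := ⟨i - 1, by omega⟩
        exact subsingleton_X₃ G (hS l) p (ih (p + 1) l (by omega)) (hX l p)
  subst him
  obtain ⟨y, hy⟩ := exists_lift_of_extAcyclic G (hS i) (hZ i)
    (M.liftCycles z (i + 1 + 1) (by simp) hz)
  refine ⟨y, ?_⟩
  rw [← M.toCycles_i i (i + 1), ← Category.assoc]
  exact (congrArg (· ≫ M.iCycles (i + 1)) hy).trans (M.liftCycles_i _ _ _ _)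

variable [HasDerivedCategory.{w} A]

/-- Maps from `G[-m]` to a complex of acyclic objects are maps of complexes, given a resolution. -/
theorem exists_Q_map_eq_of_resolution (G : A) (C N : CochainComplex A ℤ) (j : C ⟶ N) [QuasiIso j]
    [N.IsKInjective] (hN : ∀ n, Injective (N.X n))
    (hb : (∃ a, (CochainComplex.mappingCone j).IsStrictlyGE a) ∨
      ∃ d : ℕ, ∀ (F : A) (p : ℕ), d < p → Subsingleton (Ext.{w'} G F p))
    (hC : ∀ q, ExtAcyclic.{w'} G (C.X q)) (m : ℤ)
    (α : DerivedCategory.Q.obj ((single A (ComplexShape.up ℤ) m).obj G) ⟶ DerivedCategory.Q.obj C) :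
    ∃ ψ : (single A (ComplexShape.up ℤ) m).obj G ⟶ C, DerivedCategory.Q.map ψ = α := by
  classical
  let S := (single A (ComplexShape.up ℤ) m).obj G
  haveI : IsIso (DerivedCategory.Q.map j) := by
    rw [DerivedCategory.isIso_Q_map_iff_quasiIso]; infer_instance
  obtain ⟨g', hg'⟩ := (CochainComplex.IsKInjective.Qh_map_bijective
      ((HomotopyCategory.quotient _ _).obj S) N).2
    ((DerivedCategory.quotientCompQhIso A).hom.app S ≫ (α ≫ DerivedCategory.Q.map j) ≫
      (DerivedCategory.quotientCompQhIso A).inv.app N)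
  obtain ⟨g, rfl⟩ := (HomotopyCategory.quotient _ _).map_surjective g'
  have hg : DerivedCategory.Q.map g = α ≫ DerivedCategory.Q.map j := by
    rw [← cancel_epi ((DerivedCategory.quotientCompQhIso A).hom.app S),
      ← DerivedCategory.quotientCompQhIso_hom_naturality, hg', Category.assoc, Category.assoc,
      Iso.inv_hom_id_app]
    exact congrArg (_ ≫ ·) (Category.comp_id _)
  let e := singleObjXSelf (ComplexShape.up ℤ) m G
  let x : G ⟶ N.X m := e.inv ≫ g.f m
  have hx : x ≫ N.d m (m + 1) = 0 := by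
    simp only [x, Category.assoc, g.comm]
    rw [show S.d m (m + 1) = 0 from rfl, zero_comp, comp_zero]
  let K := CochainComplex.mappingCone j
  let ee (i : ℤ) : K.X i ≅ C.X (i + 1) ⊞ N.X i :=
    HomologicalComplex.homotopyCofiber.XIsoBiprod j i (i + 1) rfl
  have hK : K.Acyclic := (AcyclicLES.quasiIso_iff_acyclic_mappingCone j).1 inferInstance
  obtain ⟨y, hy⟩ := exists_d_eq G K hb hK
    (fun i => extAcyclic_of_iso G (ee i).symm
      (extAcyclic_biprod G (hC _) (haveI := hN i; extAcyclic_of_injective G _)))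
    (m - 1) m (by lia) (x ≫ (CochainComplex.mappingCone.inr j).f m) (by
      rw [Category.assoc, (CochainComplex.mappingCone.inr j).comm, reassoc_of% hx, zero_comp])
  let b : G ⟶ C.X m := y ≫ (CochainComplex.mappingCone.fst j).1.v (m - 1) m (by lia)
  let w : G ⟶ N.X (m - 1) := y ≫ (CochainComplex.mappingCone.snd j).v (m - 1) (m - 1) (add_zero _)
  have hxb : x = b ≫ j.f m + w ≫ N.d (m - 1) m := by
    have h := congrArg (· ≫ (CochainComplex.mappingCone.snd j).v m m (add_zero _)) hy
    simp only [Category.assoc, CochainComplex.mappingCone.inr_f_snd_v, Category.comp_id] at h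
    rw [CochainComplex.mappingCone.d_snd_v j (m - 1) m (by lia), Preadditive.comp_add] at h
    simp only [b, w, Category.assoc]
    exact h.symm
  have hb : b ≫ C.d m (m + 1) = 0 := by
    have h := congrArg (· ≫ (CochainComplex.mappingCone.fst j).1.v m (m + 1) rfl) hy
    simp only [Category.assoc, CochainComplex.mappingCone.inr_f_fst_v, comp_zero] at h
    rw [CochainComplex.mappingCone.d_fst_v j (m - 1) m (m + 1) (by lia) rfl, Preadditive.comp_neg,
      neg_eq_zero] at h
    simpa only [b, Category.assoc] using h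
  let ψ : S ⟶ C := mkHomFromSingle b (fun k hk => by
    obtain rfl : m + 1 = k := hk
    exact hb)
  refine ⟨ψ, ?_⟩
  rw [← cancel_mono (DerivedCategory.Q.map j), ← hg, ← Functor.map_comp]
  let hom : ∀ p q : ℤ, S.X p ⟶ N.X q := fun p q =>
    if h : p = m ∧ q = m - 1 then
      (S.XIsoOfEq h.1).hom ≫ (e.hom ≫ w) ≫ (N.XIsoOfEq h.2).inv
    else 0
  have hom_eq : hom m (m - 1) = e.hom ≫ w := by simp [hom, HomologicalComplex.XIsoOfEq]
  let H : Homotopy g (ψ ≫ j) :=
    { hom := hom
      zero := fun p q hpq => by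
        refine dif_neg fun h => hpq ?_
        show q + 1 = p
        omega
      comm := fun n => by
        by_cases hn : n = m
        · obtain rfl := hn.symm
          rw [dNext_eq hom (show (ComplexShape.up ℤ).Rel m (m + 1) from rfl),
            prevD_eq hom (show (ComplexShape.up ℤ).Rel (m - 1) m from sub_add_cancel m 1),
            show S.d m (m + 1) = 0 from rfl, zero_comp, zero_add, hom_eq, Category.assoc]
          have hg₀ : g.f m = e.hom ≫ x := (e.hom_inv_id_assoc _).symm
          have hψ : ψ.f m = e.hom ≫ b := mkHomFromSingle_f _ _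
          rw [HomologicalComplex.comp_f, hψ, hg₀, hxb, Preadditive.comp_add, Category.assoc]
          simp only [b, Category.assoc]
          abel
        · exact (isZero_single_obj_X _ _ _ _ hn).eq_of_src _ _ }
  have h := congrArg DerivedCategory.Qh.map (HomotopyCategory.eq_of_homotopy _ _ H)
  rw [← cancel_epi ((DerivedCategory.quotientCompQhIso A).hom.app S),
    ← DerivedCategory.quotientCompQhIso_hom_naturality,
    ← DerivedCategory.quotientCompQhIso_hom_naturality, h]

/-- Maps from `G[-m]` to a bounded below complex of acyclic objects are maps of complexes. -/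
theorem exists_Q_map_eq_single [EnoughInjectives A] (G : A) (C : CochainComplex A ℤ) (a : ℤ)
    [C.IsStrictlyGE a] (hC : ∀ q, ExtAcyclic.{w'} G (C.X q)) (m : ℤ)
    (α : DerivedCategory.Q.obj ((single A (ComplexShape.up ℤ) m).obj G) ⟶ DerivedCategory.Q.obj C) :
    ∃ ψ : (single A (ComplexShape.up ℤ) m).obj G ⟶ C, DerivedCategory.Q.map ψ = α := by
  obtain ⟨N, j, hj, hN, hge⟩ :=
    CochainComplex.Plus.modelCategoryQuillen.exists_quasiIso_injective C a
  haveI : N.IsKInjective := CochainComplex.isKInjective_of_injective N a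
  refine exists_Q_map_eq_of_resolution G C N j hN (Or.inl ⟨a - 1, ?_⟩) hC m α
  rw [CochainComplex.isStrictlyGE_iff]
  intro i hi
  refine IsZero.of_iso ?_ (HomologicalComplex.homotopyCofiber.XIsoBiprod j i (i + 1) rfl)
  rw [IsZero.iff_id_eq_zero]
  apply biprod.hom_ext'
  · exact (CochainComplex.isZero_of_isStrictlyGE C a (i + 1) (by lia)).eq_of_src _ _
  · exact (CochainComplex.isZero_of_isStrictlyGE N a i (by lia)).eq_of_src _ _

end Groth.Agent.H16Derived.BB
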