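import Groth.Agent.H16Derived.BB.Sums
import Groth.Agent.H16Derived.Dual.Main
import Groth.Agent.H16Derived.Dual.Symm

/-!
# Perfect objects see only finitely many summands
-/

set_option autoImplicit false
set_option linter.style.haveILetI false

universe u

open CategoryTheory CategoryTheory.Limits CategoryTheory.Pretriangulated AlgebraicGeometry

attribute [local instance] HasDerivedCategory.standard

namespace Groth.Agent.H16Derived.BB

open Groth.Agent.H10Coh Groth.Agent.H16Derived.QCohD

variable {X : Scheme.{u}}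

/-- Compactness with respect to bounded below families, in all degrees. -/
def RelGE (K : DCoh.D X) : Prop :=
  ∀ (n a : ℤ), FinSupp.Holds.{u} (fun L : DCoh.D X => L.IsGE a) (K⟦n⟧)

theorem stable_relGE : Stable (X := X) RelGE where
  of_iso e h n a := FinSupp.of_iso ((shiftFunctor _ n).mapIso e) (h n a)
  shift {K} h m n a := FinSupp.of_iso ((shiftFunctorAdd (DCoh.D X) m n).app K) (h (m + n) a)
  ext₂ _ hT h₁ h₃ n a := FinSupp.ext₂ (Triangle.shift_distinguished _ hT n) (h₁ n a) (h₃ n a)
  of_isZero hZ _ _ _ _ _ _ _ := ⟨∅, (Functor.map_isZero _ hZ).eq_of_src _ _⟩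

theorem relGE_of_isPerfect [CompactSpace X] [QuasiSeparatedSpace X] {K : DCoh.D X}
    (hK : DCoh.IsPerfect K) : RelGE K :=
  stable_relGE.of_isPerfect (fun _ hW n a =>
    FinSupp.of_iso (((DerivedCategory.singleFunctors X.Modules).shiftIso n (-n) 0 (by omega)).app _).symm
      (fun _ M _ hM α => exists_support_freeSh hW.isCompact (-n) M a hM α)) hK

/-- Perfect objects see finitely many summands of bounded below families. -/
theorem exists_support_isGE [CompactSpace X] [QuasiSeparatedSpace X] {K : DCoh.D X}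
    (hK : DCoh.IsPerfect K) (a : ℤ) : FinSupp.Holds.{u} (fun L : DCoh.D X => L.IsGE a) K :=
  FinSupp.of_iso ((shiftFunctorZero (DCoh.D X) ℤ).app K) (relGE_of_isPerfect hK 0 a)

open Groth.Agent.H16Derived.Dual

/-- `θ` is natural. -/
theorem θ_naturality (k : DCoh.D X) {m m' : DCoh.D X} (f : m ⟶ m') :
    ((T X).map f).app (ro k) ≫ Dual.θ k m' = Dual.θ k m ≫ (R k).map f := by
  show ((T X).map f).app (ro k) ≫ (adjR k).homEquiv _ _ (αc k m') =
    (adjR k).homEquiv _ _ (αc k m) ≫ (R k).map f
  rw [← Adjunction.homEquiv_naturality_right, ← Adjunction.homEquiv_naturality_left]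
  refine congrArg ((adjR k).homEquiv _ _) ?_
  show ((T X).map (((T X).map f).app (ro k))).app k ≫ αc k m' = αc k m ≫ f
  simp only [αc, Category.assoc]
  rw [← Category.assoc, α_naturality_left, Category.assoc]
  refine congrArg (_ ≫ ·) ?_
  rw [← NatTrans.naturality_assoc]
  exact congrArg (_ ≫ ·) ((rightUnit X).hom.naturality f)

/-- With finite cohomological dimension perfect objects are compact. -/
theorem exists_support_of_cd [CompactSpace X] [QuasiSeparatedSpace X] {d : ℕ}
    (hd : ∀ (F : X.Modules) (i : ℕ), d < i → Subsingleton (Coh.HH X F i)) {K : DCoh.D X}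
    (hK : DCoh.IsPerfect K) : FinSupp.Holds.{u} (fun _ : DCoh.D X => True) K := by
  intro κ M _ _ α
  haveI := Dual.isIso_θ hK
  let G := (T X).flip.obj (ro K)
  haveI : HasCoproduct fun i => G.obj (M i) := hasCoproduct_D _
  haveI : G.IsLeftAdjoint := Dual.isLeftAdjoint_TFlip _
  haveI : PreservesColimitsOfSize.{u, u} G := (Adjunction.ofIsLeftAdjoint G).leftAdjoint_preservesColimits
  let t : ((T X).obj (one X)).obj K ≅ K := σ (one X) K ≪≫ (rightUnit X).app K
  let e : (DerivedCategory.singleFunctor X.Modules 0).obj (freeSh (⊤ : X.Opens)) ≅ one X :=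
    (DerivedCategory.singleFunctor X.Modules 0).mapIso freeShTopIso ≪≫ oneIso
  obtain ⟨β, hβ⟩ : ∃ β : one X ⟶ G.obj (∐ M),
      (adjR K).homEquiv _ _ (t.hom ≫ α) = β ≫ Dual.θ K (∐ M) :=
    ⟨(adjR K).homEquiv _ _ (t.hom ≫ α) ≫ inv (Dual.θ K (∐ M)), by simp⟩
  obtain ⟨s, hs⟩ := exists_support_top hd 0 (fun i => G.obj (M i))
    (e.hom ≫ β ≫ inv (sigmaComparison G M))
  refine ⟨s, ?_⟩
  rw [← cancel_epi t.hom]
  apply ((adjR K).homEquiv _ _).injective
  rw [← Category.assoc t.hom α, Adjunction.homEquiv_naturality_right]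
  simp only [Category.assoc, cancel_epi] at hs
  rw [← cancel_mono (sigmaComparison G M), Category.assoc, Category.assoc,
    FinSupp.sigmaComparison_idem, IsIso.inv_hom_id_assoc, Category.assoc, IsIso.inv_hom_id,
    Category.comp_id] at hs
  rw [hβ, Category.assoc, ← θ_naturality, ← Category.assoc]
  exact congrArg (· ≫ Dual.θ K (∐ M)) hs

end Groth.Agent.H16Derived.BB
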