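import Groth.Agent.H16Derived.BB.Acyclic
import Groth.Agent.H16Derived.QCohD.CompactChar
import Groth.Agent.H15Site.QcColim
import Mathlib.AlgebraicGeometry.Properties

/-!
# Morphisms from free sheaves into uniformly bounded below direct sums
-/

set_option autoImplicit false
set_option linter.style.haveILetI false

universe u

open CategoryTheory CategoryTheory.Limits CategoryTheory.Pretriangulated AlgebraicGeometry Abelian
  Opposite TopologicalSpace

attribute [local instance] HasDerivedCategory.standard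

namespace Groth.Agent.H16Derived.BB

open Groth.Agent.H10Coh Groth.Agent.H16Derived.QCohD Groth.Agent.H15Site

variable {X : Scheme.{u}}

/-- Maps of free sheaves on qc opens into sums of injectives extend. -/
theorem exists_extend {κ : Type u} (I : κ → X.Modules) (hI : ∀ k, Injective (I k)) {U V : X.Opens}
    (h : V ≤ U) (hV : IsCompact (V : Set X)) (g : freeSh V ⟶ ∐ I) :
    ∃ g' : freeSh U ⟶ ∐ I, freeShMap h ≫ g' = g := by
  haveI := mono_freeShMap (X := X) h
  obtain ⟨s, hs⟩ := exists_finset_freeSh I hV g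
  refine ⟨∑ i ∈ s, Injective.factorThru (g ≫ FinSupp.proj I i) (freeShMap h) ≫ Sigma.ι I i, ?_⟩
  conv_rhs => rw [← hs, FinSupp.idem, Preadditive.comp_sum]
  rw [Preadditive.comp_sum]
  exact Finset.sum_congr rfl fun i _ => by rw [← Category.assoc, Injective.comp_factorThru, Category.assoc]

theorem qcFlasque_sigma {κ : Type u} (I : κ → X.Modules) (hI : ∀ k, Injective (I k)) :
    QcColim.QcFlasque (sh (∐ I)) := by
  intro U V h _ hV s
  obtain ⟨g, hg⟩ := exists_extend I hI h hV ((freeShEquiv V _).symm s)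
  exact ⟨freeShEquiv U _ g, (freeShEquiv_res h _ g).symm.trans
    ((congrArg (freeShEquiv V _) hg).trans (Equiv.apply_symm_apply _ _))⟩

/-- Vanishing of `HnM` gives vanishing of `Ext` out of free sheaves, degree by degree. -/
theorem subsingleton_ext_of_HnM [HasExt.{u + 1} X.Modules] (M : X.Modules) {U : X.Opens} (n : ℕ)
    (hM : Subsingleton (HnM M (n + 1) U)) : Subsingleton (Ext.{u + 1} (freeSh U) M (n + 1)) := by
  haveI := enoughInjMod X
  suffices key : ∀ k j, Subsingleton (HnM M (j + k + 1) U) →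
      Subsingleton (Ext.{u + 1} (freeSh U) (mZ M j) (k + 1)) from key n 0 (by rwa [Nat.zero_add])
  intro k
  induction k with
  | zero =>
    intro j hj
    haveI := injective_mI M j
    haveI : Subsingleton (Ext.{u + 1} (freeSh U)
        (ShortComplex.mk (mi M j) (mp M j) (mi_mp M j)).X₂ 1) :=
      Ext.subsingleton_of_injective _ _ 0
    refine subsingleton_ext_one (shortExact_mZ M j) fun q => ?_
    have hp : Function.Surjective ((mp M j).app U) :=
      (subsingleton_HnM_iff (MRes.inj M) j U).1 hj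
    obtain ⟨s, hs⟩ := hp (freeShEquiv U _ q)
    refine ⟨(freeShEquiv U _).symm s, (freeShEquiv U _).injective ?_⟩
    dsimp only
    rw [freeShEquiv_comp, Equiv.apply_symm_apply, hs]
  | succ k ih =>
    intro j hj
    haveI := injective_mI M j
    haveI : Subsingleton (Ext.{u + 1} (freeSh U)
        (ShortComplex.mk (mi M j) (mp M j) (mi_mp M j)).X₂ (k + 1 + 1)) :=
      Ext.subsingleton_of_injective _ _ (k + 1)
    exact subsingleton_ext_X₁ (shortExact_mZ M j)
      (ih (j + 1) (by rwa [show j + 1 + k + 1 = j + (k + 1) + 1 by omega]))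

/-- A bound on cohomology bounds `Ext` out of `O_X`. -/
theorem subsingleton_ext_top [HasExt.{u + 1} X.Modules] {d : ℕ}
    (hd : ∀ (F : X.Modules) (i : ℕ), d < i → Subsingleton (Coh.HH X F i)) (F : X.Modules) (p : ℕ)
    (hp : d < p) : Subsingleton (Ext.{u + 1} (freeSh (⊤ : X.Opens)) F p) := by
  obtain ⟨n, rfl⟩ : ∃ n, p = n + 1 := ⟨p - 1, by omega⟩
  haveI := hd F (n + 1) hp
  exact subsingleton_ext_of_HnM F n (HHEquiv F (n + 1)).symm.toEquiv.subsingleton

/-- Sums of injectives are acyclic for free sheaves on qc opens. -/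
theorem extAcyclic_sigma [HasExt.{u + 1} X.Modules] [QuasiSeparatedSpace X] {κ : Type u}
    (I : κ → X.Modules) (hI : ∀ k, Injective (I k)) {U : X.Opens} (hU : IsCompact (U : Set X)) :
    ExtAcyclic.{u + 1} (freeSh U) (∐ I) :=
  haveI : PrespectralSpace X.toTopCat := inferInstanceAs (PrespectralSpace X)
  haveI : QuasiSeparatedSpace X.toTopCat := inferInstanceAs (QuasiSeparatedSpace X)
  fun j => subsingleton_ext_of_HnM _ j
    (QcColim.subsingleton_of_qcFlasque (qcFlasque_sigma I hI) j U hU)

/-- Finite support only depends on the family up to isomorphism. -/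
lemma exists_support_of_iso {κ : Type u} {M N : κ → DCoh.D X} [HasCoproduct M] [HasCoproduct N]
    (e : ∀ i, M i ≅ N i) {K : DCoh.D X}
    (h : ∀ α : K ⟶ ∐ N, ∃ s, α ≫ FinSupp.idem N s = α) (α : K ⟶ ∐ M) :
    ∃ s, α ≫ FinSupp.idem M s = α := by
  obtain ⟨s, hs⟩ := h (α ≫ Limits.Sigma.map fun i => (e i).hom)
  refine ⟨s, ?_⟩
  have hn : (Limits.Sigma.map fun i => (e i).hom) ≫ FinSupp.idem N s =
      FinSupp.idem M s ≫ Limits.Sigma.map fun i => (e i).hom := by
    classical
    refine Sigma.hom_ext _ _ fun k => ?_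
    rw [Limits.Sigma.ι_map_assoc, FinSupp.ι_idem, ← Category.assoc, FinSupp.ι_idem]
    by_cases hk : k ∈ s <;> simp [hk]
  haveI : IsIso (Limits.Sigma.map fun i => (e i).hom) :=
    ⟨Limits.Sigma.map fun i => (e i).inv, Sigma.hom_ext _ _ fun k => by simp,
      Sigma.hom_ext _ _ fun k => by simp⟩
  rw [← cancel_mono (Limits.Sigma.map fun i => (e i).hom), Category.assoc, ← hn, ← Category.assoc, hs]

/-- Objects bounded below are bounded below complexes of injectives. -/
theorem exists_injective_rep (M : DCoh.D X) (a : ℤ) [M.IsGE a] :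
    ∃ I : CochainComplex X.Modules ℤ, I.IsStrictlyGE a ∧ (∀ q, Injective (I.X q)) ∧
      Nonempty (M ≅ DerivedCategory.Q.obj I) := by
  haveI := enoughInjMod X
  obtain ⟨L, hL, ⟨e⟩⟩ := DerivedCategory.exists_iso_Q_obj_of_isGE M a
  obtain ⟨J, i, hi, hJ, hg⟩ :=
    CochainComplex.Plus.modelCategoryQuillen.exists_quasiIso_injective L a
  haveI : IsIso (DerivedCategory.Q.map i) := by
    rw [DerivedCategory.isIso_Q_map_iff_quasiIso]; infer_instance
  exact ⟨J, hg, hJ, ⟨e ≪≫ asIso (DerivedCategory.Q.map i)⟩⟩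

/-- Finite support, given that maps into the sum of injective representatives are chain maps. -/
theorem exists_support_of_chain {U : X.Opens} (hU : IsCompact (U : Set X))
    (m : ℤ) {κ : Type u} (M : κ → DCoh.D X) [HasCoproduct M] (I : κ → CochainComplex X.Modules ℤ)
    (e : ∀ i, M i ≅ DerivedCategory.Q.obj (I i))
    (hchain : ∀ γ : DerivedCategory.Q.obj ((HomologicalComplex.single X.Modules (ComplexShape.up ℤ) m).obj
        (freeSh U)) ⟶ DerivedCategory.Q.obj (∐ I), ∃ ψ, DerivedCategory.Q.map ψ = γ)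
    (α : (DerivedCategory.singleFunctor X.Modules m).obj (freeSh U) ⟶ ∐ M) :
    ∃ s, α ≫ FinSupp.idem M s = α := by
  haveI := KFlat.Stalk.isGrothendieckAbelian_modules (X := X)
  let Q' : CochainComplex X.Modules ℤ ⥤ DCoh.D X := DerivedCategory.Q
  haveI : HasCoproduct fun i => Q'.obj (I i) := hasCoproduct_D _
  refine exists_support_of_iso (N := fun i => Q'.obj (I i)) e (fun β => ?_) α
  haveI : PreservesColimit (Discrete.functor I) Q' := QCoprod.preservesColimit_Q I
  let G := freeSh U
  let S := (HomologicalComplex.single X.Modules (ComplexShape.up ℤ) m).obj G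
  let C := ∐ I
  let ev := fun q => HomologicalComplex.eval X.Modules (ComplexShape.up ℤ) q
  let ei : ∀ q, C.X q ≅ ∐ fun i => (I i).X q := fun q => PreservesCoproduct.iso (ev q) I
  let eS := (DerivedCategory.singleFunctorIsoCompQ X.Modules m).app G
  obtain ⟨ψ, hψ⟩ := hchain (eS.inv ≫ β ≫ sigmaComparison Q' I)
  obtain ⟨s, hs⟩ := exists_finset_freeSh (fun i => (I i).X m) hU
    ((HomologicalComplex.singleObjXSelf (ComplexShape.up ℤ) m G).inv ≫ ψ.f m ≫ (ei m).hom)
  refine ⟨s, ?_⟩
  have hψs : ψ ≫ FinSupp.idem I s = ψ := by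
    refine HomologicalComplex.hom_ext _ _ fun n => ?_
    by_cases hn : n = m
    · obtain rfl := hn.symm
      have hc : (ei m).hom ≫ inv (ei m).hom = 𝟙 _ := IsIso.hom_inv_id _
      have hn' : FinSupp.idem (fun i => (I i).X m) s ≫ (ei m).inv =
          (ei m).inv ≫ (FinSupp.idem I s).f m := FinSupp.sigmaComparison_idem (ev m) I s
      have h := congrArg (fun t => (HomologicalComplex.singleObjXSelf (ComplexShape.up ℤ) m G).hom ≫
        t ≫ (ei m).inv) hs
      simp only [Category.assoc, hn', Iso.hom_inv_id_assoc] at h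
      simpa using h
    · exact (HomologicalComplex.isZero_single_obj_X _ _ _ _ hn).eq_of_src _ _
  have hQ : Q'.map ψ ≫ Q'.map (FinSupp.idem I s) = Q'.map ψ :=
    (Q'.map_comp _ _).symm.trans (congrArg Q'.map hψs)
  have hψ' : Q'.map ψ = eS.inv ≫ β ≫ sigmaComparison Q' I := hψ
  rw [hψ'] at hQ
  have hQ' : (β ≫ sigmaComparison Q' I) ≫ Q'.map (FinSupp.idem I s) = β ≫ sigmaComparison Q' I :=
    (cancel_epi eS.inv).1 ((Category.assoc _ _ _).symm.trans hQ)
  rw [Category.assoc, ← FinSupp.sigmaComparison_idem, ← Category.assoc] at hQ'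
  exact (cancel_mono (sigmaComparison Q' I)).1 hQ'

/-- Free sheaves on qc opens see only finitely many summands of bounded below families. -/
theorem exists_support_freeSh [QuasiSeparatedSpace X] {U : X.Opens} (hU : IsCompact (U : Set X))
    (m : ℤ) {κ : Type u} (M : κ → DCoh.D X) [HasCoproduct M] (a : ℤ) (hM : ∀ i, (M i).IsGE a)
    (α : (DerivedCategory.singleFunctor X.Modules m).obj (freeSh U) ⟶ ∐ M) :
    ∃ s, α ≫ FinSupp.idem M s = α := by
  haveI := enoughInjMod X
  haveI : HasExt.{u + 1} X.Modules := HasExt.standard _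
  haveI := KFlat.Stalk.isGrothendieckAbelian_modules (X := X)
  choose I hge hI hiso using fun i => (haveI := hM i; exists_injective_rep (M i) a)
  let ei := fun q => PreservesCoproduct.iso (HomologicalComplex.eval X.Modules (ComplexShape.up ℤ) q) I
  haveI : (∐ I).IsStrictlyGE a := (CochainComplex.isStrictlyGE_iff _ a).2 fun q hq => by
    refine IsZero.of_iso ?_ (ei q)
    exact (IsZero.iff_id_eq_zero _).2 (Sigma.hom_ext _ _ fun i =>
      ((haveI := hge i; CochainComplex.isZero_of_isStrictlyGE (I i) a q hq)).eq_of_src _ _)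
  exact exists_support_of_chain hU m M I (fun i => (hiso i).some) (exists_Q_map_eq_single _ _ a
    (fun q => extAcyclic_of_iso _ (ei q).symm (extAcyclic_sigma _ (fun i => hI i q) hU)) m) α

/-- With finite cohomological dimension, `O_X` sees only finitely many summands of any family. -/
theorem exists_support_top [CompactSpace X] [QuasiSeparatedSpace X] {d : ℕ}
    (hd : ∀ (F : X.Modules) (i : ℕ), d < i → Subsingleton (Coh.HH X F i))
    (m : ℤ) {κ : Type u} (M : κ → DCoh.D X) [HasCoproduct M]
    (α : (DerivedCategory.singleFunctor X.Modules m).obj (freeSh (⊤ : X.Opens)) ⟶ ∐ M) :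
    ∃ s, α ≫ FinSupp.idem M s = α := by
  haveI : HasExt.{u + 1} X.Modules := HasExt.standard _
  haveI := KFlat.Stalk.isGrothendieckAbelian_modules (X := X)
  obtain ⟨R, r, hR⟩ := KInjRes.exists_resolution_functor (A := X.Modules)
  let I := fun i => R.obj (DerivedCategory.Q.objPreimage (M i))
  have hU : IsCompact ((⊤ : X.Opens) : Set X) := isCompact_univ
  let ei := fun q => PreservesCoproduct.iso (HomologicalComplex.eval X.Modules (ComplexShape.up ℤ) q) I
  have hQr : ∀ C, IsIso (DerivedCategory.Q.map (r.app C)) := fun C => by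
    haveI := (hR C).2.1
    rw [DerivedCategory.isIso_Q_map_iff_quasiIso]; infer_instance
  refine exists_support_of_chain hU m M I
    (fun i => (DerivedCategory.Q.objObjPreimageIso (M i)).symm ≪≫
      @asIso _ _ _ _ (DerivedCategory.Q.map (r.app (DerivedCategory.Q.objPreimage (M i))))
        (hQr _)) (fun γ => ?_) α
  haveI := (hR (∐ I)).2.1
  haveI := (hR (∐ I)).2.2.1
  exact exists_Q_map_eq_of_resolution _ (∐ I) (R.obj (∐ I)) (r.app (∐ I)) (hR (∐ I)).2.2.2
    (Or.inr ⟨d, fun F p hp => subsingleton_ext_top hd F p hp⟩)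
    (fun q => extAcyclic_of_iso _ (ei q).symm
      (extAcyclic_sigma _ (fun i => (hR _).2.2.2 q) hU)) m γ

end Groth.Agent.H16Derived.BB
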